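import Cfsg.Agent.Coprime.External

/-!
# Generation by fixed points, for an action by automorphisms
-/

set_option autoImplicit false

namespace CfsgLib.OddFourFix

variable {G A : Type*} [Group G] [Group A] [Finite G] [Finite A]

/-- An invariant subgroup of `G` lies in `K` once all fixed elements of nonidentity elements of a
noncyclic abelian group acting coprimely do. -/
theorem le_of_fixed_points (φ : A →* MulAut G) (hA : IsMulCommutative A) (hnc : ¬ IsCyclic A)
    (hcop : (Nat.card A).Coprime (Nat.card G)) (H K : Subgroup G)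
    (hH : ∀ a : A, ∀ h ∈ H, φ a h ∈ H)
    (hK : ∀ a : A, a ≠ 1 → ∀ h ∈ H, φ a h = h → h ∈ K) : H ≤ K := by
  haveI := CfsgLib.Coprime.finite_semidirect φ
  set ι := SemidirectProduct.inl (φ := φ)
  set R := (SemidirectProduct.inr (φ := φ)).range
  have e : A ≃* R := MonoidHom.ofInjective SemidirectProduct.inr_injective
  have h : H.map ι ≤ K.map ι := by
    refine CfsgLib.Coprime.le_of_centralizers (A := R) ⟨⟨fun x y => ?_⟩⟩
      (fun hc => hnc (isCyclic_of_injective e.toMonoidHom e.injective))
      (CfsgLib.Coprime.inr_le_normalizer_map_inl φ hH)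
      (by rw [CfsgLib.Coprime.card_range_inr, CfsgLib.Coprime.card_map_inl]
          exact hcop.coprime_dvd_right (Subgroup.card_subgroup_dvd_card H)) ?_
    · obtain ⟨a, rfl⟩ := e.surjective x
      obtain ⟨b, rfl⟩ := e.surjective y
      rw [← map_mul, ← map_mul, mul_comm' a b]
    · rintro _ ⟨a, rfl⟩ ha1 g ⟨⟨x, hx, rfl⟩, hg⟩
      refine ⟨x, hK a (fun ha => ha1 (by rw [ha, map_one])) x hx ?_, rfl⟩
      apply SemidirectProduct.inl_injective (φ := φ)
      have h1 : ι x * SemidirectProduct.inr a = SemidirectProduct.inr a * ι x :=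
        Subgroup.mem_centralizer_singleton_iff.mp hg
      rw [SemidirectProduct.inl_aut, map_inv]
      exact mul_inv_eq_of_eq_mul h1.symm
  intro x hx
  obtain ⟨y, hy, hyx⟩ := h ⟨x, hx, rfl⟩
  exact SemidirectProduct.inl_injective hyx ▸ hy

end CfsgLib.OddFourFix
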